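import Groth.Agent.IntSh.K405.GaussOrd

/-!
# Gauss lemma for divisors on affine spaces
-/

set_option autoImplicit false
universe u

open CategoryTheory AlgebraicGeometry TopologicalSpace IsLocalRing CategoryTheory.Limits

namespace K405.GaussDiv

open K654.Gen K654.OrdMap K654.OrdAff K654.PExt K654.OrdLocUFD K654.PolyMap
open K405.GaussPoly K405.GaussOrd

section

variable {σ : Type u} {X Y : Scheme.{u}} [IsIntegral X] [IsIntegral Y] {q : Y ⟶ X}

/-- A vertical point of codimension one over a generization of `x` specializes to every point over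
`x`. -/
theorem specializes_of_vertical (hq : IsPoly σ q) (z ζ : Y) (hz1 : Order.coheight z = 1)
    (hx1 : Order.coheight (q z) = 1) (h : q z ⤳ q ζ) : z ⤳ ζ := by
  obtain ⟨U, hU, hζU⟩ : ∃ U : X.Opens, IsAffineOpen U ∧ q ζ ∈ U := by
    obtain ⟨_, ⟨V, hV, rfl⟩, hxV, -⟩ :=
      X.isBasis_affineOpens.exists_subset_of_mem_open (Set.mem_univ (q ζ)) isOpen_univ
    exact ⟨V, hV, hxV⟩
  have hzU : q z ∈ U := h.mem_open U.isOpen hζU
  have hζV : ζ ∈ q ⁻¹ᵁ U := hζU
  have hzV : z ∈ q ⁻¹ᵁ U := hzU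
  have hpr : pr (hq.affine U hU) z hzV = (pr hU (q z) hzU).map (q.app U).hom := by
    rcases hq.dichotomy hU z hzV hz1 with h | ⟨-, h⟩
    · rw [h, coheight_generic] at hx1
      exact absurd hx1 zero_ne_one
    · exact h
  have hle : pr (hq.affine U hU) z hzV ≤ pr (hq.affine U hU) ζ hζV := by
    rw [hpr, Ideal.map_le_iff_le_comap, ← pr_image q hU (hq.affine U hU) ζ hζV]
    intro a ha
    rw [mem_pr_iff] at ha ⊢
    exact fun h' => ha (h.mem_open (X.basicOpen a).isOpen h')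
  rw [specializes_iff_mem_closure, mem_closure_iff]
  intro o ho hζo
  obtain ⟨f, hf1, hf2⟩ := (hq.affine U hU).exists_basicOpen_le
    (V := ⟨o, ho⟩ ⊓ q ⁻¹ᵁ U) ⟨ζ, ⟨hζo, hζV⟩⟩ hζV
  refine ⟨z, (hf1 ?_).1, rfl⟩
  by_contra hz
  have h1 := hle ((mem_pr_iff (hq.affine U hU) z hzV f).mpr hz)
  exact (mem_pr_iff (hq.affine U hU) ζ hζV f).mp h1 hf2

end

section

variable {σ : Type u} {X Y : Scheme.{u}} [IsIntegral X] [IsIntegral Y] {q : Y ⟶ X}
  {T : σ → Γ(Y, ⊤)} (hq : IsPolyT σ q T) [IsLocallyNoetherian X] [IsLocallyNoetherian Y]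
  (hX : Pi1.IsNormalScheme X)

include hq hX

/-- Gauss lemma for divisors, polynomial morphisms with global coordinates. -/
theorem exists_divisor_descent_of_isPolyT (D : X → ℤ)
    (hD : ∀ x, Order.coheight x ≠ 1 → D x = 0)
    (g : Y.functionField) (hg : g ≠ 0)
    (hpos : ∀ z : Y, Order.coheight z = 1 → 0 ≤ D (q z) + Scheme.ord g z)
    (ζ : Y) (hzero : ∀ z : Y, Order.coheight z = 1 → z ⤳ ζ → D (q z) + Scheme.ord g z = 0) :
    ∃ f : X.functionField, f ≠ 0 ∧ (∀ x : X, Order.coheight x = 1 → 0 ≤ D x + Scheme.ord f x) ∧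
      ∀ x : X, Order.coheight x = 1 → x ⤳ q ζ → D x + Scheme.ord f x = 0 := by
  classical
  have hDη : D (genericPoint X) = 0 := hD _ (by rw [coheight_generic]; exact zero_ne_one)
  obtain ⟨P, hP⟩ := hq.exists_ev_eq g hg fun z hz hz1 => by
    have := hpos z hz1
    rwa [hz, hDη, zero_add] at this
  -- the quotients of the coefficients by `g` are regular at `ζ`
  have hreg : ∀ m, ∃ r : Y.presheaf.stalk ζ, algebraMap (Y.presheaf.stalk ζ) Y.functionField r * g =
      (ff q hq.generic).hom (P.coeff m) := by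
    intro m
    by_cases hm : P.coeff m = 0
    · exact ⟨0, by rw [map_zero, zero_mul, hm, map_zero]⟩
    have hm' : (ff q hq.generic).hom (P.coeff m) ≠ 0 :=
      (map_ne_zero_iff _ (ff_injective q hq.generic)).mpr hm
    obtain ⟨r, hr⟩ := Groth.Agent.Ega4late.H535.PicPrincipal.regPt_of_ord_nonneg
      (isIntegrallyClosed_stalk hq.isPoly hX) ζ
      ((ff q hq.generic).hom (P.coeff m) / g) (div_ne_zero hm' hg) (fun z hz hz1 => by
        rw [ord_div hm' hg]
        obtain ⟨U, hU, hzU⟩ : ∃ U : X.Opens, IsAffineOpen U ∧ q z ∈ U := by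
          obtain ⟨_, ⟨V, hV, rfl⟩, hxV, -⟩ :=
            X.isBasis_affineOpens.exists_subset_of_mem_open (Set.mem_univ (q z)) isOpen_univ
          exact ⟨V, hV, hxV⟩
        rcases hq.isPoly.dichotomy hU z hzU hz1 with h | ⟨h, -⟩
        · rw [ord_horizontal hq.generic z h _ hm]
          have := hzero z hz1 hz
          rw [h, hDη] at this
          omega
        · rw [hq.isPoly.ord_ff z hz1 h (K475.Ref1Ord.isDVR_of_coheight hX h), ← hP]
          have := ord_ev_le hq hX z hz1 h P m hm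
          omega)
    refine ⟨r, ?_⟩
    change algebraMap (Y.presheaf.stalk ζ) Y.functionField r = _ at hr
    rw [hr, div_mul_cancel₀ _ hg]
  choose r hr using hreg
  -- some quotient is a unit
  let t : (σ →₀ ℕ) → Y.presheaf.stalk ζ := fun m =>
    m.prod fun i n => (Y.presheaf.germ ⊤ ζ trivial).hom (T i) ^ n
  have ht : ∀ m, algebraMap (Y.presheaf.stalk ζ) Y.functionField (t m) =
      m.prod fun i n => (Y.presheaf.germ ⊤ (genericPoint Y) trivial).hom (T i) ^ n := by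
    intro m
    simp only [t, Finsupp.prod, map_prod, map_pow]
    refine Finset.prod_congr rfl fun i _ => ?_
    congr 1
    have : Nonempty (⊤ : Y.Opens) := ⟨⟨ζ, trivial⟩⟩
    exact Scheme.algebraMap_germ_eq_germToFunctionField (X := Y) (U := ⊤) trivial (T i)
  have hsum : ∑ m ∈ P.support, r m * t m = 1 := by
    refine IsFractionRing.injective (Y.presheaf.stalk ζ) Y.functionField ?_
    rw [map_one, map_sum]
    refine mul_right_cancel₀ hg ?_
    rw [one_mul, Finset.sum_mul, ← hP]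
    conv_rhs => rw [ev, MvPolynomial.coe_eval₂Hom, MvPolynomial.eval₂_eq]
    refine Finset.sum_congr rfl fun m _ => ?_
    rw [map_mul, mul_right_comm, hP, hr m, ht m]
    rfl
  obtain ⟨m, -, hm⟩ : ∃ m ∈ P.support, IsUnit (r m) := by
    by_contra hcon
    push Not at hcon
    have h1 : (1 : Y.presheaf.stalk ζ) ∈ maximalIdeal (Y.presheaf.stalk ζ) := by
      rw [← hsum]
      exact Ideal.sum_mem _ fun m hm => Ideal.mul_mem_right _ _
        ((mem_maximalIdeal _).mpr (hcon m hm))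
    exact (Ideal.ne_top_iff_one _).mp (maximalIdeal.isMaximal _).ne_top h1
  have hm0 : P.coeff m ≠ 0 := by
    intro h0
    have h1 := hr m
    rw [h0, map_zero] at h1
    rcases mul_eq_zero.mp h1 with h | h
    · exact (hm.map (algebraMap (Y.presheaf.stalk ζ) Y.functionField)).ne_zero h
    · exact hg h
  refine ⟨P.coeff m, hm0, fun x hx => ?_, fun x hx hxζ => ?_⟩
  · obtain ⟨z, rfl, hz1⟩ := hq.isPoly.exists_point x hx (K475.Ref1Ord.isDVR_of_coheight hX hx)
    have h1 := hpos z hz1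
    have h2 := ord_ev_le hq hX z hz1 hx P m hm0
    rw [hP] at h2
    omega
  · obtain ⟨z, rfl, hz1⟩ := hq.isPoly.exists_point x hx (K475.Ref1Ord.isDVR_of_coheight hX hx)
    have hzζ : z ⤳ ζ := specializes_of_vertical hq.isPoly z ζ hz1 hx hxζ
    have h1 := hzero z hz1 hzζ
    have h2 : Scheme.ord (algebraMap (Y.presheaf.stalk ζ) Y.functionField (r m)) z = 0 := by
      have h3 : algebraMap (Y.presheaf.stalk ζ) Y.functionField (r m) =
          algebraMap (Y.presheaf.stalk z) Y.functionField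
            ((Y.presheaf.stalkSpecializes hzζ).hom (r m)) := by
        have h4 := Y.presheaf.stalkSpecializes_comp (genericPoint_specializes z) hzζ
        exact (congrArg (fun φ : Y.presheaf.stalk ζ ⟶ Y.presheaf.stalk (genericPoint Y) =>
          φ.hom (r m)) h4).symm
      rw [h3]
      exact ord_algebraMap_unit z _ (hm.map (Y.presheaf.stalkSpecializes hzζ).hom)
    have h3 : Scheme.ord ((ff q hq.generic).hom (P.coeff m)) z = Scheme.ord g z := by
      rw [← hr m, Scheme.ord_mul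
        (hm.map (algebraMap (Y.presheaf.stalk ζ) Y.functionField)).ne_zero hg, h2, zero_add]
    rw [hq.isPoly.ord_ff z hz1 hx (K475.Ref1Ord.isDVR_of_coheight hX hx)] at h3
    rw [h3]
    exact h1

end

/-- A morphism which over each affine open is the spectrum of a polynomial ring in given global
coordinates. -/
theorem isPolyT_of_square {σ : Type u} {X Y : Scheme.{u}} (q : Y ⟶ X) (T : σ → Γ(Y, ⊤))
    (H : ∀ (U : X.Opens) (hU : IsAffineOpen U),
      ∃ j : Spec (CommRingCat.of (MvPolynomial σ Γ(X, U))) ⟶ Y,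
        IsPullback j (Spec.map (CommRingCat.ofHom MvPolynomial.C)) q hU.fromSpec ∧
        ∀ i, j.appTop.hom (T i) = (Scheme.ΓSpecIso _).inv.hom (MvPolynomial.X i)) :
    IsPolyT σ q T where
  affine U hU := by
    obtain ⟨j, hj, -⟩ := H U hU
    exact (isAffineOpen_of_square q hU j _ hj).2.2
  exists_equiv U hU := by
    obtain ⟨j, hj, hjT⟩ := H U hU
    obtain ⟨h1, h2, -⟩ := isAffineOpen_of_square q hU j _ hj
    have hle : (⊤ : (Spec (CommRingCat.of (MvPolynomial σ Γ(X, U)))).Opens) ≤ j ⁻¹ᵁ (q ⁻¹ᵁ U) := by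
      rw [← h2]
      intro z _
      exact ⟨z, rfl⟩
    have htop : j ⁻¹ᵁ (q ⁻¹ᵁ U) = ⊤ := top_le_iff.mp hle
    let e' : Γ(Y, q ⁻¹ᵁ U) ⟶ CommRingCat.of (MvPolynomial σ Γ(X, U)) :=
      j.appLE (q ⁻¹ᵁ U) ⊤ hle ≫ (Scheme.ΓSpecIso _).hom
    have hiso : IsIso e' := by
      have h3 : IsIso (j.app (q ⁻¹ᵁ U)) := j.isIso_app _ h2.ge
      have h4 : j.appLE (q ⁻¹ᵁ U) ⊤ hle = j.app (q ⁻¹ᵁ U) ≫
        (Spec (CommRingCat.of (MvPolynomial σ Γ(X, U)))).presheaf.map (eqToHom htop.symm).op := rfl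
      have h5 : IsIso (j.appLE (q ⁻¹ᵁ U) ⊤ hle) := by
        rw [h4]
        infer_instance
      infer_instance
    have hcomp : q.app U ≫ e' = CommRingCat.ofHom MvPolynomial.C := by
      have h6 : q.app U ≫ j.appLE (q ⁻¹ᵁ U) ⊤ hle = (j ≫ q).appLE U ⊤ hle :=
        (Scheme.Hom.comp_appLE j q U ⊤ hle).symm
      have hle2 : (⊤ : (Spec Γ(X, U)).Opens) ≤ hU.fromSpec ⁻¹ᵁ U := by
        rw [hU.fromSpec_preimage_self]
      have h7 : hU.fromSpec.appLE U ⊤ hle2 ≫ (Scheme.ΓSpecIso Γ(X, U)).hom = 𝟙 _ := by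
        have h8 : hU.fromSpec.appLE U ⊤ hle2 = hU.fromSpec.app U ≫
          (Spec Γ(X, U)).presheaf.map (eqToHom hU.fromSpec_preimage_self.symm).op := rfl
        rw [h8, hU.fromSpec_app_self, Category.assoc, Category.assoc, ← Functor.map_comp_assoc]
        simp
      have h9 : ∀ (w : Spec (CommRingCat.of (MvPolynomial σ Γ(X, U))) ⟶ X) (hw : j ≫ q = w)
        (hle3 : (⊤ : (Spec (CommRingCat.of (MvPolynomial σ Γ(X, U)))).Opens) ≤ w ⁻¹ᵁ U),
        (j ≫ q).appLE U ⊤ hle = w.appLE U ⊤ hle3 := by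
        rintro w rfl hle3
        rfl
      have hle4 : (⊤ : (Spec (CommRingCat.of (MvPolynomial σ Γ(X, U)))).Opens) ≤
          (Spec.map (CommRingCat.ofHom (MvPolynomial.C :
          Γ(X, U) →+* MvPolynomial σ Γ(X, U))) ≫ hU.fromSpec) ⁻¹ᵁ U := by
        rw [← hj.w]
        exact hle
      have h10 : (Spec.map (CommRingCat.ofHom (MvPolynomial.C :
          Γ(X, U) →+* MvPolynomial σ Γ(X, U))) ≫ hU.fromSpec).appLE U ⊤ hle4 =
          hU.fromSpec.appLE U ⊤ hle2 ≫ (Spec.map (CommRingCat.ofHom (MvPolynomial.C :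
          Γ(X, U) →+* MvPolynomial σ Γ(X, U)))).appTop := by
        rw [← Scheme.Hom.appLE_comp_appLE _ _ U ⊤ ⊤ hle2 le_top]
        congr 1
      have h11 : (Spec.map (CommRingCat.ofHom (MvPolynomial.C :
          Γ(X, U) →+* MvPolynomial σ Γ(X, U)))).appTop ≫ (Scheme.ΓSpecIso _).hom =
          (Scheme.ΓSpecIso Γ(X, U)).hom ≫ CommRingCat.ofHom (MvPolynomial.C :
          Γ(X, U) →+* MvPolynomial σ Γ(X, U)) :=
        Scheme.ΓSpecIso_naturality (CommRingCat.ofHom (MvPolynomial.C :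
          Γ(X, U) →+* MvPolynomial σ Γ(X, U)))
      calc q.app U ≫ e' = (q.app U ≫ j.appLE (q ⁻¹ᵁ U) ⊤ hle) ≫ (Scheme.ΓSpecIso _).hom := by
            rw [Category.assoc]
        _ = (hU.fromSpec.appLE U ⊤ hle2 ≫ (Spec.map (CommRingCat.ofHom (MvPolynomial.C :
          Γ(X, U) →+* MvPolynomial σ Γ(X, U)))).appTop) ≫ (Scheme.ΓSpecIso _).hom := by
            rw [h6, h9 _ hj.w hle4, h10]
        _ = _ := by
            rw [Category.assoc, h11, ← Category.assoc, h7, Category.id_comp]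
    refine ⟨(asIso e').commRingCatIsoToRingEquiv.symm, fun a => ?_, fun i => ?_⟩
    · rw [RingEquiv.symm_apply_eq]
      exact (congrArg (fun φ : Γ(X, U) ⟶ CommRingCat.of (MvPolynomial σ Γ(X, U)) => φ.hom a)
        hcomp).symm
    · rw [RingEquiv.symm_apply_eq]
      have h12 : Y.presheaf.map (homOfLE (le_top : q ⁻¹ᵁ U ≤ ⊤)).op ≫ e' =
          j.appTop ≫ (Scheme.ΓSpecIso _).hom := by
        change Y.presheaf.map (homOfLE (le_top : q ⁻¹ᵁ U ≤ ⊤)).op ≫
          (j.appLE (q ⁻¹ᵁ U) ⊤ hle ≫ (Scheme.ΓSpecIso _).hom) = _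
        rw [← Category.assoc, Scheme.Hom.map_appLE]
        congr 1
      have h13 := congrArg (fun φ : Γ(Y, ⊤) ⟶ CommRingCat.of (MvPolynomial σ Γ(X, U)) =>
        φ.hom (T i)) h12
      refine Eq.trans ?_ h13.symm
      change MvPolynomial.X i = (Scheme.ΓSpecIso _).hom.hom (j.appTop.hom (T i))
      rw [hjT i]
      exact (congrArg (fun φ : CommRingCat.of (MvPolynomial σ Γ(X, U)) ⟶
        CommRingCat.of (MvPolynomial σ Γ(X, U)) => φ.hom (MvPolynomial.X i))
        (Scheme.ΓSpecIso (CommRingCat.of (MvPolynomial σ Γ(X, U)))).inv_hom_id).symm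

/-- Affine spaces have global coordinates. -/
theorem isPolyT_affineSpace (n : Type u) (X : Scheme.{u}) :
    IsPolyT n (𝔸(n; X) ↘ X) (AffineSpace.coord X) := by
  refine isPolyT_of_square _ _ fun U hU => ?_
  refine ⟨(AffineSpace.SpecIso n Γ(X, U)).inv ≫ AffineSpace.map n hU.fromSpec, ?_, fun i => ?_⟩
  · have h1 := AffineSpace.isPullback_map (n := n) hU.fromSpec
    refine h1.of_iso (AffineSpace.SpecIso n Γ(X, U)) (Iso.refl _) (Iso.refl _) (Iso.refl _) ?_ ?_ ?_ ?_
    · simp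
    · rw [Iso.refl_hom, Category.comp_id, ← AffineSpace.SpecIso_inv_over, Iso.hom_inv_id_assoc]
    · simp
    · simp
  · rw [Scheme.Hom.comp_appTop, CommRingCat.hom_comp, RingHom.comp_apply,
      AffineSpace.map_appTop_coord]
    exact AffineSpace.SpecIso_inv_appTop_coord Γ(X, U) i

/-- Gauss lemma for divisors on affine spaces (job INTSH-A). -/
theorem exists_divisor_descent {σ : Type u} {Y : Scheme.{u}} [IsIntegral Y] [IsLocallyNoetherian Y]
    [IsIntegral 𝔸(σ; Y)] [IsLocallyNoetherian 𝔸(σ; Y)]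
    (hYn : Pi1.IsNormalScheme Y) (D : Y → ℤ) (hD : ∀ x, Order.coheight x ≠ 1 → D x = 0)
    (g : (𝔸(σ; Y)).functionField) (hg : g ≠ 0)
    (hpos : ∀ z : 𝔸(σ; Y), Order.coheight z = 1 → 0 ≤ D ((𝔸(σ; Y) ↘ Y) z) + Scheme.ord g z)
    (y : Y) (ζ : 𝔸(σ; Y)) (hζ : (𝔸(σ; Y) ↘ Y) ζ = y)
    (hzero : ∀ z : 𝔸(σ; Y), Order.coheight z = 1 → z ⤳ ζ →
      D ((𝔸(σ; Y) ↘ Y) z) + Scheme.ord g z = 0) :
    ∃ f : Y.functionField, f ≠ 0 ∧ (∀ x : Y, Order.coheight x = 1 → 0 ≤ D x + Scheme.ord f x) ∧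
      ∀ x : Y, Order.coheight x = 1 → x ⤳ y → D x + Scheme.ord f x = 0 := by
  subst hζ
  exact exists_divisor_descent_of_isPolyT (isPolyT_affineSpace σ Y) hYn D hD g hg hpos ζ hzero

end K405.GaussDiv
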