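import Groth.Agent.IntSh.K405.GaussPoly
import Groth.Agent.Ega4late.H535.PicPrincipal
import Groth.Agent.SDiv.K475.Ref1Ord

/-!
# Orders of polynomials over the function field of the base
-/

set_option autoImplicit false
universe u

open CategoryTheory AlgebraicGeometry TopologicalSpace IsLocalRing

namespace K405.GaussOrd

open K654.Gen K654.OrdMap K654.OrdAff K654.PExt K654.OrdLocUFD K654.PolyMap
open K405.GaussPoly

section

variable {X Y : Scheme.{u}} [IsIntegral X] [IsIntegral Y] {q : Y ⟶ X}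

theorem surjective_of_generic (w : X) (hw : w = genericPoint X) :
    Function.Surjective (algebraMap (X.presheaf.stalk w) X.functionField) := by
  subst hw
  intro a
  refine ⟨a, ?_⟩
  change (X.presheaf.stalkSpecializes (genericPoint_specializes (genericPoint X))).hom a = a
  exact congrArg (fun φ : X.presheaf.stalk (genericPoint X) ⟶ X.presheaf.stalk (genericPoint X) =>
    φ.hom a) (X.presheaf.stalkSpecializes_refl (genericPoint X))

/-- Rational functions of the base have order zero at horizontal points. -/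
theorem ord_horizontal [IsLocallyNoetherian Y] (hη : q (genericPoint Y) = genericPoint X) (z : Y)
    (hz : q z = genericPoint X) (f : X.functionField) (hf : f ≠ 0) :
    Scheme.ord ((ff q hη).hom f) z = 0 := by
  have h1 : ∀ f : X.functionField, 0 ≤ Scheme.ord ((ff q hη).hom f) z := by
    intro f
    obtain ⟨a, rfl⟩ := surjective_of_generic (q z) hz f
    rw [ff_algebraMap]
    exact ord_algebraMap_nonneg z _
  have h2 := h1 f
  have h3 := h1 f⁻¹
  have h0 : (ff q hη).hom f ≠ 0 := (map_ne_zero_iff _ (ff_injective q hη)).mpr hf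
  rw [map_inv₀, ord_inv h0] at h3
  omega

end

section

variable {σ : Type u} {X Y : Scheme.{u}} [IsIntegral X] [IsIntegral Y] {q : Y ⟶ X}

/-- Polynomial morphisms preserve normality. -/
theorem isIntegrallyClosed_stalk (hq : IsPoly σ q) (hX : Pi1.IsNormalScheme X) (z : Y) :
    IsIntegrallyClosed (Y.presheaf.stalk z) := by
  obtain ⟨U, hU, hzU⟩ : ∃ U : X.Opens, IsAffineOpen U ∧ q z ∈ U := by
    obtain ⟨_, ⟨V, hV, rfl⟩, hxV, -⟩ :=
      X.isBasis_affineOpens.exists_subset_of_mem_open (Set.mem_univ (q z)) isOpen_univ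
    exact ⟨V, hV, hxV⟩
  have hne : Nonempty U := ⟨⟨_, hzU⟩⟩
  have hzV : z ∈ q ⁻¹ᵁ U := hzU
  have hne' : Nonempty (q ⁻¹ᵁ U) := ⟨⟨_, hzV⟩⟩
  have h1 : IsIntegrallyClosed Γ(X, U) := Groth.Agent.S0288.isIntegrallyClosed_section hX hU
  obtain ⟨e, -⟩ := hq.exists_equiv U hU
  have h2 : IsIntegrallyClosed (MvPolynomial σ Γ(X, U)) :=
    Groth.Agent.Desc.NormalSmooth.isIntegrallyClosed_mvPolynomial σ
  have h3 : IsIntegrallyClosed Γ(Y, q ⁻¹ᵁ U) := IsIntegrallyClosed.of_equiv e
  algebraize [(Y.presheaf.germ (q ⁻¹ᵁ U) z hzV).hom]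
  have h4 : IsLocalization.AtPrime (Y.presheaf.stalk z) (pr (hq.affine U hU) z hzV) :=
    isLocalization_pr (hq.affine U hU) z hzV
  exact isIntegrallyClosed_of_isLocalization _ (pr (hq.affine U hU) z hzV).primeCompl
    (Ideal.primeCompl_le_nonZeroDivisors _)

end

section

variable {σ : Type u} {X Y : Scheme.{u}} [IsIntegral X] [IsIntegral Y] {q : Y ⟶ X}
  {T : σ → Γ(Y, ⊤)} (hq : IsPolyT σ q T) [IsLocallyNoetherian X] [IsLocallyNoetherian Y]
  (hX : Pi1.IsNormalScheme X)

include hq hX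

/-- A polynomial with integral coefficients, one of which is `1`, has order zero at a vertical
point. -/
theorem ord_ev_eq_zero (z : Y) (hz1 : Order.coheight z = 1) (hx1 : Order.coheight (q z) = 1)
    (Q : MvPolynomial σ X.functionField) (hQ : ∀ m, 0 ≤ Scheme.ord (Q.coeff m) (q z))
    (m₀ : σ →₀ ℕ) (h0 : Q.coeff m₀ = 1) :
    ev q hq.generic T Q ≠ 0 ∧ Scheme.ord (ev q hq.generic T Q) z = 0 := by
  classical
  obtain ⟨U, hU, hzU⟩ : ∃ U : X.Opens, IsAffineOpen U ∧ q z ∈ U := by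
    obtain ⟨_, ⟨V, hV, rfl⟩, hxV, -⟩ :=
      X.isBasis_affineOpens.exists_subset_of_mem_open (Set.mem_univ (q z)) isOpen_univ
    exact ⟨V, hV, hxV⟩
  have hne : Nonempty U := ⟨⟨_, hzU⟩⟩
  have hzV : z ∈ q ⁻¹ᵁ U := hzU
  have hne' : Nonempty (q ⁻¹ᵁ U) := ⟨⟨_, hzV⟩⟩
  have hηU := generic_mem hzU
  have hηV := generic_mem hzV
  have hdvr := K475.Ref1Ord.isDVR_of_coheight hX hx1
  -- coefficients in the local ring
  have hc : ∀ m, ∃ c : X.presheaf.stalk (q z),
      algebraMap (X.presheaf.stalk (q z)) X.functionField c = Q.coeff m := by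
    intro m
    by_cases hm : Q.coeff m = 0
    · exact ⟨0, by rw [map_zero, hm]⟩
    · exact (K475.Ref1Ord.mem_range_iff_ord hX hx1 hm).mpr (hQ m)
  choose c hc using hc
  obtain ⟨s, β, hs, hβ⟩ : ∃ (s : Γ(X, U)) (β : (σ →₀ ℕ) → Γ(X, U)), s ∉ pr hU (q z) hzU ∧
      ∀ m ∈ Q.support, gK U hηU (β m) = gK U hηU s * Q.coeff m := by
    algebraize [(X.presheaf.germ U (q z) hzU).hom]
    have l1 : IsLocalization.AtPrime (X.presheaf.stalk (q z)) (pr hU (q z) hzU) :=
      isLocalization_pr hU (q z) hzU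
    obtain ⟨b, hb⟩ := IsLocalization.exist_integer_multiples
      (pr hU (q z) hzU).primeCompl Q.support c
    have hb' : ∀ m, ∃ β : Γ(X, U), m ∈ Q.support →
        algebraMap Γ(X, U) (X.presheaf.stalk (q z)) β = (b : Γ(X, U)) • c m := by
      intro m
      by_cases hm : m ∈ Q.support
      · obtain ⟨β, hβ⟩ := hb m hm
        exact ⟨β, fun _ => hβ⟩
      · exact ⟨0, fun h => absurd h hm⟩
    choose β hβ using hb'
    refine ⟨b, β, b.2, fun m hm => ?_⟩
    rw [gK_eq U hηU (q z) hzU, gK_eq U hηU (q z) hzU, ← hc m, ← map_mul]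
    congr 1
    have := hβ m hm
    rw [Algebra.smul_def] at this
    exact this
  obtain ⟨e, he, hev⟩ := hq.exists_ev U hU hηU hηV
  have happ : (q.app U).hom =
      (e : MvPolynomial σ Γ(X, U) →+* Γ(Y, q ⁻¹ᵁ U)).comp MvPolynomial.C :=
    RingHom.ext fun a => (he a).symm
  let R : MvPolynomial σ Γ(X, U) := ∑ m ∈ Q.support, MvPolynomial.monomial m (β m)
  have hcoeff : ∀ m, R.coeff m = if m ∈ Q.support then β m else 0 := by
    intro m
    simp only [R, MvPolynomial.coeff_sum, MvPolynomial.coeff_monomial]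
    rw [Finset.sum_ite_eq' Q.support m]
  have hm₀ : m₀ ∈ Q.support := by
    rw [MvPolynomial.mem_support_iff, h0]
    exact one_ne_zero
  have hRm₀ : R.coeff m₀ = s := by
    rw [hcoeff, if_pos hm₀]
    refine gK_injective U hηU ?_
    rw [hβ m₀ hm₀, h0, mul_one]
  have hmap : MvPolynomial.map (gK U hηU) R = MvPolynomial.C (gK U hηU s) * Q := by
    ext m
    rw [MvPolynomial.coeff_map, MvPolynomial.coeff_C_mul, hcoeff]
    split_ifs with hm
    · exact hβ m hm
    · rw [MvPolynomial.notMem_support_iff.mp hm, map_zero, mul_zero]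
  have hpr : pr (hq.affine U hU) z hzV = (pr hU (q z) hzU).map (q.app U).hom := by
    rcases hq.isPoly.dichotomy hU z hzV hz1 with h | ⟨-, h⟩
    · rw [h, coheight_generic] at hx1
      exact absurd hx1 zero_ne_one
    · exact h
  have hnot : e R ∉ pr (hq.affine U hU) z hzV := by
    rw [hpr, happ, ← Ideal.map_map]
    intro h
    have h1 : R ∈ ((pr hU (q z) hzU).map MvPolynomial.C) := by
      have h2 : R ∈ Ideal.comap (e : MvPolynomial σ Γ(X, U) →+* Γ(Y, q ⁻¹ᵁ U)) (Ideal.map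
        (e : MvPolynomial σ Γ(X, U) →+* Γ(Y, q ⁻¹ᵁ U))
          ((pr hU (q z) hzU).map MvPolynomial.C)) := h
      rwa [Ideal.comap_map_of_bijective
        (e : MvPolynomial σ Γ(X, U) →+* Γ(Y, q ⁻¹ᵁ U)) e.bijective] at h2
    rw [MvPolynomial.mem_map_C_iff] at h1
    have h3 := h1 m₀
    rw [hRm₀] at h3
    exact hs h3
  have h1 : Scheme.ord (gK (q ⁻¹ᵁ U) hηV (e R)) z = 0 :=
    ord_eq_zero_of_notMem (hq.affine U hU) z hzV _ hnot
  have h2 : gK (q ⁻¹ᵁ U) hηV (e R) ≠ 0 := by
    intro h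
    have h3 : e R = 0 := gK_injective _ hηV (h.trans (map_zero _).symm)
    rw [h3] at hnot
    exact hnot (Ideal.zero_mem _)
  have h3 : gK (q ⁻¹ᵁ U) hηV (e R) =
      (ff q hq.generic).hom (gK U hηU s) * ev q hq.generic T Q := by
    rw [hev, hmap, map_mul, ev_C]
  have h4 : Scheme.ord ((ff q hq.generic).hom (gK U hηU s)) z = 0 := by
    rw [hq.isPoly.ord_ff z hz1 hx1 hdvr]
    exact ord_eq_zero_of_notMem hU (q z) hzU s hs
  rw [h3] at h1 h2
  have h5 := left_ne_zero_of_mul h2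
  have h6 := right_ne_zero_of_mul h2
  rw [Scheme.ord_mul h5 h6, h4, zero_add] at h1
  exact ⟨h6, h1⟩

/-- The order of a polynomial at a vertical point is at most the order of each coefficient. -/
theorem ord_ev_le (z : Y) (hz1 : Order.coheight z = 1) (hx1 : Order.coheight (q z) = 1)
    (P : MvPolynomial σ X.functionField) (m : σ →₀ ℕ) (hm : P.coeff m ≠ 0) :
    Scheme.ord (ev q hq.generic T P) z ≤ Scheme.ord (P.coeff m) (q z) := by
  have hdvr := K475.Ref1Ord.isDVR_of_coheight hX hx1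
  obtain ⟨m₀, hm₀, hmin⟩ := Finset.exists_min_image P.support
    (fun m => Scheme.ord (P.coeff m) (q z)) ⟨m, MvPolynomial.mem_support_iff.mpr hm⟩
  have hc0 : P.coeff m₀ ≠ 0 := MvPolynomial.mem_support_iff.mp hm₀
  obtain ⟨h1, h2⟩ := ord_ev_eq_zero hq hX z hz1 hx1 (MvPolynomial.C (P.coeff m₀)⁻¹ * P)
    (fun n => by
      rw [MvPolynomial.coeff_C_mul]
      by_cases hn : P.coeff n = 0
      · rw [hn, mul_zero]
        simp
      · rw [Scheme.ord_mul (inv_ne_zero hc0) hn, ord_inv hc0]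
        have := hmin n (MvPolynomial.mem_support_iff.mpr hn)
        omega) m₀ (by rw [MvPolynomial.coeff_C_mul, inv_mul_cancel₀ hc0])
  have h3 : ev q hq.generic T P = (ff q hq.generic).hom (P.coeff m₀) *
      ev q hq.generic T (MvPolynomial.C (P.coeff m₀)⁻¹ * P) := by
    rw [← ev_C q hq.generic T, ← map_mul, ← mul_assoc, ← MvPolynomial.C_mul,
      mul_inv_cancel₀ hc0, MvPolynomial.C_1, one_mul]
  have h4 : (ff q hq.generic).hom (P.coeff m₀) ≠ 0 :=
    (map_ne_zero_iff _ (ff_injective q hq.generic)).mpr hc0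
  rw [h3, Scheme.ord_mul h4 h1, h2, add_zero, hq.isPoly.ord_ff z hz1 hx1 hdvr]
  exact hmin m (MvPolynomial.mem_support_iff.mpr hm)

end

end K405.GaussOrd
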