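import Groth.Agent.WDiv.K654.PolyMain
import Groth.Agent.WDiv.K654.PolyCrit
import Groth.Agent.S0288
import Groth.Agent.Desc.NormalSmooth

/-!
# Polynomial morphisms with global coordinates

`q : Y ⟶ X` is over every affine open of `X` the spectrum of a polynomial ring in global
coordinates `T`. Rational functions which are regular in codimension one on the generic fibre are
polynomials, orders of polynomials along vertical divisors are bounded by orders of coefficients.
-/

set_option autoImplicit false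
universe u

open CategoryTheory AlgebraicGeometry TopologicalSpace IsLocalRing

namespace K405.GaussPoly

open K654.Gen K654.OrdMap K654.OrdAff K654.PExt K654.OrdLocUFD K654.PolyMap

section

variable {X : Scheme.{u}} [IsIntegral X] [IsLocallyNoetherian X]

/-- A rational function without poles on the factorial localization belongs to it. -/
theorem exists_of_ord_nonneg {U : X.Opens} (hU : IsAffineOpen U) (hη : genericPoint X ∈ U)
    (M : Submonoid Γ(X, U)) (hM0 : (0 : Γ(X, U)) ∉ M) {B' : Type*} [CommRing B'] [IsDomain B']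
    [UniqueFactorizationMonoid B'] [Algebra Γ(X, U) B'] [IsLocalization M B']
    (ψ : B' →+* X.functionField) (hψ : ∀ a, ψ (algebraMap Γ(X, U) B' a) = gK U hη a)
    (g : X.functionField) (hg : g ≠ 0)
    (h : ∀ x, Good hU M x → Order.coheight x = 1 → 0 ≤ Scheme.ord g x) :
    ∃ v : B', ψ v = g := by
  have hne : Nonempty U := ⟨⟨_, hη⟩⟩
  have hdom : IsDomain Γ(X, U) := inferInstance
  have hnoeth : IsNoetherianRing Γ(X, U) := IsLocallyNoetherian.component_noetherian ⟨U, hU⟩
  have hnoeth' : IsNoetherianRing B' := IsLocalization.isNoetherianRing M B' inferInstance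
  have hMn : M ≤ nonZeroDivisors Γ(X, U) := le_nonZeroDivisors_of_noZeroDivisors hM0
  have hfrac : IsFractionRing Γ(X, U) X.functionField :=
    functionField_isFractionRing_of_isAffineOpen X U hU
  have hinj := gK_injective U hη
  have hinjB : Function.Injective (algebraMap Γ(X, U) B') := IsLocalization.injective B' hMn
  let _ : Algebra B' X.functionField := ψ.toAlgebra
  have htower : IsScalarTower Γ(X, U) B' X.functionField :=
    IsScalarTower.of_algebraMap_eq fun a => (hψ a).symm
  have hfrac' : IsFractionRing B' X.functionField :=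
    IsFractionRing.isFractionRing_of_isDomain_of_isLocalization M B' X.functionField
  have hψinj : Function.Injective ψ := IsFractionRing.injective B' X.functionField
  have clear : ∀ a : B', ∃ (a₀ : Γ(X, U)) (m : Γ(X, U)), m ∈ M ∧
      a * algebraMap Γ(X, U) B' m = algebraMap Γ(X, U) B' a₀ := by
    intro a
    obtain ⟨⟨a₀, m⟩, ham⟩ := IsLocalization.surj M a
    exact ⟨a₀, m, m.2, ham⟩
  have hu : ∀ m ∈ M, IsUnit (algebraMap Γ(X, U) B' m) := fun m hm =>
    IsLocalization.map_units B' ⟨m, hm⟩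
  have key : ∀ (a b : B'), a ≠ 0 → b ≠ 0 → IsRelPrime a b →
      (∀ x, Good hU M x → Order.coheight x = 1 →
        Scheme.ord (ψ a) x ≤ Scheme.ord (ψ b) x) → IsUnit a := by
    intro a b ha hb hab H
    by_contra hna
    obtain ⟨p, hp, hpa⟩ := WfDvdMonoid.exists_irreducible_factor hna ha
    have hpp : Prime p := hp.prime
    have hP' : (Ideal.span {p}).IsPrime := (Ideal.span_singleton_prime hpp.ne_zero).mpr hpp
    have hP : ((Ideal.span {p}).comap (algebraMap Γ(X, U) B')).IsPrime := Ideal.comap_isPrime _ _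
    obtain ⟨x, hx, hxp⟩ := exists_pr_eq hU ((Ideal.span {p}).comap (algebraMap Γ(X, U) B'))
    have hdisj : Disjoint (M : Set Γ(X, U)) (pr hU x hx) := by
      rw [Set.disjoint_left]
      intro m hm hmx
      rw [hxp] at hmx
      exact hP'.ne_top (Ideal.eq_top_of_isUnit_mem _ hmx (hu m hm))
    have hmap : (pr hU x hx).map (algebraMap Γ(X, U) B') = Ideal.span {p} := by
      rw [hxp]
      exact IsLocalization.map_under M B' _
    have hx1 : Order.coheight x = 1 := by
      rw [← height_pr hU x hx, ← IsLocalization.height_map_of_disjoint (S := B') M _ hdisj, hmap]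
      exact Ideal.height_span_singleton_eq_one_of_mem_nonZeroDivisors
        (mem_nonZeroDivisors_of_ne_zero hpp.ne_zero) hpp.not_isUnit
    obtain ⟨t, ht⟩ := exists_isGen_of_isLocalization M (pr hU x hx) hdisj p hmap
    obtain ⟨hdvr, _⟩ := isDVR_and_ord_of_isGen hU x hx hx1 t ht
    obtain ⟨a₀, m, hm, ham⟩ := clear a
    obtain ⟨b₀, n, hn, hbn⟩ := clear b
    have hm0 : m ≠ 0 := fun h0 => hM0 (h0 ▸ hm)
    have hn0 : n ≠ 0 := fun h0 => hM0 (h0 ▸ hn)
    have ha₀ : a₀ ≠ 0 := by
      rintro rfl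
      rw [map_zero, mul_eq_zero] at ham
      exact ham.elim ha (hu m hm).ne_zero
    have e1 : ψ a * gK U hη m = gK U hη a₀ := by rw [← hψ, ← map_mul, ham, hψ]
    have e2 : ψ b * gK U hη n = gK U hη b₀ := by rw [← hψ, ← map_mul, hbn, hψ]
    have hψa : ψ a ≠ 0 := (map_ne_zero_iff ψ hψinj).mpr ha
    have hψb : ψ b ≠ 0 := (map_ne_zero_iff ψ hψinj).mpr hb
    have hgm : gK U hη m ≠ 0 := (map_ne_zero_iff _ hinj).mpr hm0
    have hgn : gK U hη n ≠ 0 := (map_ne_zero_iff _ hinj).mpr hn0
    have h1 : a₀ ∈ pr hU x hx := by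
      rw [hxp, Ideal.mem_comap, ← ham, Ideal.mem_span_singleton]
      exact hpa.mul_right _
    have h2 : b₀ ∉ pr hU x hx := by
      rw [hxp, Ideal.mem_comap, ← hbn, Ideal.mem_span_singleton]
      intro hpb
      have : p ∣ b := (IsUnit.dvd_mul_right (hu n hn)).mp hpb
      exact hp.not_isUnit (hab hpa this)
    have h3 := ord_pos_of_mem hU x hx hx1 a₀ ha₀ h1
    have h4 := ord_eq_zero_of_notMem hU x hx b₀ h2
    have h5 := ord_eq_zero_of_notMem hU x hx m (Set.disjoint_left.mp hdisj hm)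
    have h6 := ord_eq_zero_of_notMem hU x hx n (Set.disjoint_left.mp hdisj hn)
    rw [← e1, Scheme.ord_mul hψa hgm, h5, add_zero] at h3
    rw [← e2, Scheme.ord_mul hψb hgn, h6, add_zero] at h4
    have h7 := H x ⟨hx, hdisj⟩ hx1
    omega
  obtain ⟨a, b, hrel, hab⟩ := IsFractionRing.exists_reduced_fraction (A := B')
    (K := X.functionField) g
  have hb0 : (b : B') ≠ 0 := nonZeroDivisors.ne_zero b.2
  have hgb : ψ b ≠ 0 := (map_ne_zero_iff ψ hψinj).mpr hb0
  have hga : g * ψ b = ψ a := by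
    have := IsLocalization.mk'_spec (X.functionField) a b
    rw [hab] at this
    exact this
  have ha0 : a ≠ 0 := by
    rintro rfl
    rw [map_zero, mul_eq_zero] at hga
    exact hga.elim hg hgb
  have H : ∀ x, Good hU M x → Order.coheight x = 1 →
      Scheme.ord (ψ b) x ≤ Scheme.ord (ψ a) x := by
    intro x hx hx1
    rw [← hga, Scheme.ord_mul hg hgb]
    have := h x hx hx1
    omega
  obtain ⟨b', hb'⟩ := key b a hb0 ha0 hrel.symm H
  refine ⟨a * ↑b'⁻¹, ?_⟩
  have h6 : ψ (↑b'⁻¹) * ψ b = 1 := by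
    rw [← map_mul, ← hb', Units.inv_mul, map_one]
  rw [map_mul, ← hga, mul_assoc, mul_comm (ψ b), h6, mul_one]

end

/-- Over every affine open of `X`, `q` is the spectrum of a polynomial ring in the global
coordinates `T`. -/
structure IsPolyT (σ : Type u) {X Y : Scheme.{u}} (q : Y ⟶ X) (T : σ → Γ(Y, ⊤)) : Prop where
  affine : ∀ U : X.Opens, IsAffineOpen U → IsAffineOpen (q ⁻¹ᵁ U)
  exists_equiv : ∀ U : X.Opens, IsAffineOpen U →
    ∃ e : MvPolynomial σ Γ(X, U) ≃+* Γ(Y, q ⁻¹ᵁ U), (∀ a, e (MvPolynomial.C a) = (q.app U).hom a) ∧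
      ∀ i, e (MvPolynomial.X i) = (Y.presheaf.map (homOfLE (le_top : q ⁻¹ᵁ U ≤ ⊤)).op).hom (T i)

section

variable {σ : Type u} {X Y : Scheme.{u}} {q : Y ⟶ X} {T : σ → Γ(Y, ⊤)} (hq : IsPolyT σ q T)

include hq

theorem IsPolyT.isPoly : IsPoly σ q where
  affine := hq.affine
  exists_equiv U hU := by
    obtain ⟨e, he, -⟩ := hq.exists_equiv U hU
    exact ⟨e, he⟩

end

section

variable {σ : Type u} {X Y : Scheme.{u}} [IsIntegral X] [IsIntegral Y] (q : Y ⟶ X)
  (hη : q (genericPoint Y) = genericPoint X) (T : σ → Γ(Y, ⊤))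

/-- Polynomials over the function field of the base as rational functions. -/
noncomputable def ev : MvPolynomial σ X.functionField →+* Y.functionField :=
  MvPolynomial.eval₂Hom (ff q hη).hom
    (fun i => (Y.presheaf.germ ⊤ (genericPoint Y) trivial).hom (T i))

theorem ev_C (a : X.functionField) : ev q hη T (MvPolynomial.C a) = (ff q hη).hom a :=
  MvPolynomial.eval₂Hom_C _ _ a

theorem ev_X (i : σ) : ev q hη T (MvPolynomial.X i) =
    (Y.presheaf.germ ⊤ (genericPoint Y) trivial).hom (T i) :=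
  MvPolynomial.eval₂Hom_X' _ _ i

end

section

variable {σ : Type u} {X Y : Scheme.{u}} [IsIntegral X] [IsIntegral Y] {q : Y ⟶ X}
  {T : σ → Γ(Y, ⊤)} (hq : IsPolyT σ q T)

include hq

theorem IsPolyT.generic : q (genericPoint Y) = genericPoint X := hq.isPoly.generic

/-- Over an affine open, the evaluation is given by the polynomial structure. -/
theorem IsPolyT.exists_ev (U : X.Opens) (hU : IsAffineOpen U) (hηU : genericPoint X ∈ U)
    (hηV : genericPoint Y ∈ q ⁻¹ᵁ U) :
    ∃ e : MvPolynomial σ Γ(X, U) ≃+* Γ(Y, q ⁻¹ᵁ U),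
      (∀ a, e (MvPolynomial.C a) = (q.app U).hom a) ∧
      ∀ p, gK (q ⁻¹ᵁ U) hηV (e p) = ev q hq.generic T (MvPolynomial.map (gK U hηU) p) := by
  obtain ⟨e, he, heX⟩ := hq.exists_equiv U hU
  refine ⟨e, he, fun p => ?_⟩
  have hne : Nonempty U := ⟨⟨_, hηU⟩⟩
  have hne' : Nonempty (q ⁻¹ᵁ U) := ⟨⟨_, hηV⟩⟩
  have key : (gK (q ⁻¹ᵁ U) hηV).comp (e : MvPolynomial σ Γ(X, U) →+* Γ(Y, q ⁻¹ᵁ U)) =
      (ev q hq.generic T).comp (MvPolynomial.map (gK U hηU)) := by
    refine MvPolynomial.ringHom_ext (fun a => ?_) fun i => ?_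
    · change gK (q ⁻¹ᵁ U) hηV (e (MvPolynomial.C a)) =
        ev q hq.generic T (MvPolynomial.map (gK U hηU) (MvPolynomial.C a))
      rw [he, MvPolynomial.map_C, ev_C]
      exact (ff_germ q hq.generic U a).symm
    · change gK (q ⁻¹ᵁ U) hηV (e (MvPolynomial.X i)) =
        ev q hq.generic T (MvPolynomial.map (gK U hηU) (MvPolynomial.X i))
      rw [heX, MvPolynomial.map_X, ev_X]
      exact congrArg (fun φ : Γ(Y, ⊤) ⟶ Y.presheaf.stalk (genericPoint Y) => φ.hom (T i))
        (Y.presheaf.germ_res (homOfLE (le_top : q ⁻¹ᵁ U ≤ ⊤)) (genericPoint Y) hηV)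
  exact congrArg (fun φ : MvPolynomial σ Γ(X, U) →+* Y.functionField => φ p) key

/-- Rational functions without poles on the generic fibre are polynomials. -/
theorem IsPolyT.exists_ev_eq [IsLocallyNoetherian Y] (g : Y.functionField) (hg : g ≠ 0)
    (h : ∀ y, q y = genericPoint X → Order.coheight y = 1 → 0 ≤ Scheme.ord g y) :
    ∃ P : MvPolynomial σ X.functionField, ev q hq.generic T P = g := by
  obtain ⟨U, hU, hηU⟩ : ∃ U : X.Opens, IsAffineOpen U ∧ genericPoint X ∈ U := by
    obtain ⟨_, ⟨V, hV, rfl⟩, hxV, -⟩ :=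
      X.isBasis_affineOpens.exists_subset_of_mem_open (Set.mem_univ (genericPoint X)) isOpen_univ
    exact ⟨V, hV, hxV⟩
  have hne : Nonempty U := ⟨⟨_, hηU⟩⟩
  have hfrac : IsFractionRing Γ(X, U) X.functionField :=
    functionField_isFractionRing_of_isAffineOpen X U hU
  have hηV : genericPoint Y ∈ q ⁻¹ᵁ U := by
    change q (genericPoint Y) ∈ U
    rw [hq.generic]
    exact hηU
  have hne' : Nonempty (q ⁻¹ᵁ U) := ⟨⟨_, hηV⟩⟩
  have hinj := gK_injective (q ⁻¹ᵁ U) hηV
  obtain ⟨e, he, hev⟩ := hq.exists_ev U hU hηU hηV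
  have happ : (q.app U).hom =
      (e : MvPolynomial σ Γ(X, U) →+* Γ(Y, q ⁻¹ᵁ U)).comp MvPolynomial.C :=
    RingHom.ext fun a => (he a).symm
  have hM0 : (0 : Γ(Y, q ⁻¹ᵁ U)) ∉ (nonZeroDivisors Γ(X, U)).map (q.app U).hom := by
    rintro ⟨a, ha, h0⟩
    exact nonZeroDivisors.ne_zero ha (hq.isPoly.injective U hU (h0.trans (map_zero _).symm))
  let _ : Algebra Γ(Y, q ⁻¹ᵁ U) (MvPolynomial σ X.functionField) :=
    ((MvPolynomial.map (gK U hηU)).comp e.symm.toRingHom).toAlgebra
  have hloc : IsLocalization ((nonZeroDivisors Γ(X, U)).map (q.app U).hom)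
      (MvPolynomial σ X.functionField) := by
    let _ : Algebra (MvPolynomial σ Γ(X, U)) (MvPolynomial σ X.functionField) :=
      MvPolynomial.algebraMvPolynomial
    have h1 : IsLocalization ((nonZeroDivisors Γ(X, U)).map
        (MvPolynomial.C : Γ(X, U) →+* MvPolynomial σ Γ(X, U)))
          (MvPolynomial σ X.functionField) :=
      MvPolynomial.isLocalization _ _
    have h2 := IsLocalization.isLocalization_of_base_ringEquiv ((nonZeroDivisors Γ(X, U)).map
      (MvPolynomial.C : Γ(X, U) →+* MvPolynomial σ Γ(X, U))) (MvPolynomial σ X.functionField) e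
    convert h2 using 1
    · rw [happ]
      ext b
      simp only [Submonoid.mem_map]
      constructor
      · rintro ⟨a, ha, rfl⟩
        exact ⟨_, ⟨a, ha, rfl⟩, rfl⟩
      · rintro ⟨_, ⟨a, ha, rfl⟩, rfl⟩
        exact ⟨a, ha, rfl⟩
    · rfl
  refine exists_of_ord_nonneg (hq.affine U hU) hηV
    ((nonZeroDivisors Γ(X, U)).map (q.app U).hom) hM0 (ev q hq.generic T) (fun b => ?_) g hg
    fun y hy hy1 => h y (hq.isPoly.generic_of_good hU hηU y hy) hy1
  change ev q hq.generic T (MvPolynomial.map (gK U hηU) (e.symm b)) = _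
  rw [← hev, e.apply_symm_apply]

end

end K405.GaussPoly
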